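import Groth.Agent.SymAlgGen.Basic
import Groth.Agent.QC.FTSup
import Groth.Agent.QA.Embed

/-!
Finite type affine factorisations of quasi-affine morphisms through generated subalgebras.
-/

set_option autoImplicit false
set_option backward.isDefEq.respectTransparency false

universe u

open CategoryTheory CategoryTheory.Limits AlgebraicGeometry TopologicalSpace Opposite

noncomputable section

namespace Groth.Agent.RelSpecFT

open RelSpec Groth.Agent.SymAlgGen Groth.Agent.RelSpecUP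

variable {S : Scheme.{u}} {E : S.Modules} {A : QCAlg S} (j : E ⟶ A.toModule)

/-- The spectrum of the subalgebra generated by a finite type module is of finite type. -/
theorem locallyOfFiniteType_π (hE : Coh.IsQCoh E) (hft : CohB1.IsFT E) :
    LocallyOfFiniteType (subAlg j).π := by
  classical
  let B := subAlg j
  rw [IsZariskiLocalAtSource.iff_of_openCover (P := @LocallyOfFiniteType) B.glueData.cover]
  intro U
  obtain ⟨U, hU⟩ := U
  change LocallyOfFiniteType (B.ι U hU ≫ B.π)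
  rw [B.ι_π U hU]
  suffices h : (B.str.app (op U)).hom.FiniteType by
    have : LocallyOfFiniteType (Spec.map (B.str.app (op U))) :=
      (HasRingHomProperty.Spec_iff (P := @LocallyOfFiniteType)).mpr h
    infer_instance
  have : E.IsQuasicoherent := hE
  obtain ⟨T, hT⟩ := ((Groth.Agent.QC.isFT_iff_finite_sections (M := E)).mp hft ⟨U, hU⟩).fg_top
  letI : Algebra Γ(S, U) (loc j U) := ((B.str.app (op U)).hom : Γ(S, U) →+* loc j U).toAlgebra
  change Algebra.FiniteType Γ(S, U) (loc j U)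
  have hgen : ∀ e : Γ(E, U), jsec j U e ∈ loc j U := fun e =>
    (loc_eq_gen j hU).ge (jsec_mem_gen j U e)
  refine ⟨T.image (fun e => (⟨jsec j U e, hgen e⟩ : loc j U)), eq_top_iff.mpr fun a _ => ?_⟩
  let Q : Subalgebra Γ(S, U) (loc j U) := Algebra.adjoin Γ(S, U)
    (↑(T.image (fun e => (⟨jsec j U e, hgen e⟩ : loc j U))) : Set (loc j U))
  change a ∈ Q
  have hj : ∀ e : Γ(E, U), (⟨jsec j U e, hgen e⟩ : loc j U) ∈ Q := by
    intro e
    have he : e ∈ Submodule.span Γ(S, U) (T : Set Γ(E, U)) := hT ▸ Submodule.mem_top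
    induction he using Submodule.span_induction with
    | mem e he => exact Algebra.subset_adjoin (Finset.mem_coe.mpr (Finset.mem_image_of_mem _ he))
    | zero =>
      convert Q.zero_mem using 1
      exact Subtype.ext (map_zero (j.app U).hom)
    | add x y _ _ hx hy =>
      convert Q.add_mem hx hy using 1
      exact Subtype.ext (map_add (j.app U).hom x y)
    | smul r x _ hx =>
      convert Q.mul_mem (Q.algebraMap_mem r) hx using 1
      exact Subtype.ext (jsec_smul j U r x)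
  have key : gen j U ≤ Q.toSubring.map (loc j U).subtype := by
    refine Subring.closure_le.mpr ?_
    rintro _ (⟨r, rfl⟩ | ⟨e, rfl⟩)
    · exact ⟨algebraMap Γ(S, U) (loc j U) r, Q.algebraMap_mem r, rfl⟩
    · exact ⟨_, hj e, rfl⟩
  obtain ⟨b, hb, hba⟩ := key ((loc_eq_gen j hU).le a.2)
  exact (Subtype.ext hba : b = a) ▸ hb

/-- Sections of the direct image algebra as sections of the direct image module. -/
def fromPush {X : Scheme.{u}} (f : X ⟶ S) [QuasiCompact f] [QuasiSeparated f] :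
    (Scheme.Modules.pushforward f).obj (Coh.structureModule X) ⟶ (QCAlg.directImage f).toModule :=
  ⟨letI := (QCAlg.directImage f).moduleSect
   PresheafOfModules.homMk
    { app := fun U => AddCommGrpCat.ofHom
        { toFun := fun s => s, map_zero' := rfl, map_add' := fun _ _ => rfl } }
    fun _ _ _ => rfl⟩

/-- The comparison with the direct image lands in the spectrum of the subalgebra. -/
theorem exists_factor {X Y : Scheme.{u}} [CompactSpace Y] [QuasiSeparatedSpace Y] (f : X ⟶ Y)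
    [QuasiCompact f] [QuasiSeparated f] [LocallyOfFiniteType f]
    (hqa : ∀ V : Y.Opens, IsAffineOpen V → Scheme.IsQuasiAffine ((f ⁻¹ᵁ V : X.Opens) : Scheme.{u})) :
    ∃ (X'' : Scheme.{u}) (g : X'' ⟶ Y) (h : X ⟶ X''),
      IsAffineHom g ∧ LocallyOfFiniteType g ∧ IsImmersion h ∧ h ≫ g = f := by
  classical
  have hV : ∀ y : Y, ∃ V : Y.affineOpens, y ∈ V.1 := fun y => by
    obtain ⟨V, hV, hxV, -⟩ := exists_isAffineOpen_mem_and_subset (x := y) (U := ⊤) trivial
    exact ⟨⟨V, hV⟩, hxV⟩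
  choose V hyV using hV
  obtain ⟨I, hI⟩ := isCompact_univ.elim_finite_subcover (fun y : Y => ((V y).1 : Set Y))
    (fun y => (V y).1.2) fun y _ => Set.mem_iUnion.mpr ⟨y, hyV y⟩
  have hemb : ∀ y : Y, ∃ (n : ℕ) (i : ((f ⁻¹ᵁ (V y).1 : X.Opens) : Scheme.{u}) ⟶
      𝔸(ULift.{u} (Fin n); ((V y).1 : Scheme.{u}))),
      IsImmersion i ∧ i ≫ (𝔸(ULift.{u} (Fin n); ((V y).1 : Scheme.{u})) ↘ ((V y).1 : Scheme.{u})) =
        f ∣_ (V y).1 := fun y => by
    have := hqa (V y).1 (V y).2
    exact Groth.Agent.QA.exists_immersion_affineSpace (f ∣_ (V y).1)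
  choose n i hi hif using hemb
  let sec : ∀ y, ULift.{u} (Fin (n y)) → Γ(X, f ⁻¹ᵁ (V y).1) := fun y a =>
    (f ⁻¹ᵁ (V y).1).topIso.hom ((i y).appTop (AffineSpace.coord _ a))
  let F := (Scheme.Modules.pushforward f).obj (Coh.structureModule X)
  have hu : (Coh.structureModule X).IsQuasicoherent := Groth.Agent.QC.isQCoh_unit X
  have : F.IsQuasicoherent := Groth.Agent.QC.isQCoh_pushforward (M := Coh.structureModule X) f
  obtain ⟨Sb, hS, hmem⟩ := Groth.Agent.QC.exists_sub_containing (F := F) I (fun y => (V y).1)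
    (fun y => (V y).2) (fun y => Finset.univ.image (fun a => (sec y a : Γ(X, f ⁻¹ᵁ (V y).1))))
  obtain ⟨hq, hft⟩ := Groth.Agent.QC.Sub.isCoh_toModules hS
  let D := QCAlg.directImage f
  let j : Sb.toModules ⟶ D.toModule := Sb.ι ≫ fromPush f
  let B := subAlg j
  obtain ⟨⟨h, hh⟩, hω⟩ := (toAlg_bijective B f).2 ⟨(incl j).hom, (incl j).comm⟩
  have hlft := locallyOfFiniteType_π j hq hft
  refine ⟨B.spec, B.π, h, inferInstance, hlft, ?_, hh⟩
  -- immersion over each member of the cover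
  have hcov : (⨆ y : I, B.π ⁻¹ᵁ (V y.1).1) = ⊤ := by
    refine top_le_iff.mp fun z _ => ?_
    obtain ⟨y, hy, hzy⟩ := Set.mem_iUnion₂.mp (hI (Set.mem_univ (B.π.base z)))
    exact Opens.mem_iSup.mpr ⟨⟨y, hy⟩, hzy⟩
  rw [IsZariskiLocalAtTarget.iff_of_iSup_eq_top (P := @IsImmersion) _ hcov]
  rintro ⟨y, hy⟩
  let U := (V y).1
  have hU : IsAffineOpen U := (V y).2
  have hmem' : ∀ a, (sec y a : D.presheaf.obj (op U)) ∈ loc j U := fun a => by
    obtain ⟨b, hb⟩ := (Sb.range_ι_app _ _).mpr (hmem y hy _ (Finset.mem_image_of_mem _ (Finset.mem_univ a)))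
    refine (loc_eq_gen j hU).ge ?_
    have : jsec j U b = (sec y a : D.presheaf.obj (op U)) := hb
    exact this ▸ jsec_mem_gen j U b
  let σ : ULift.{u} (Fin (n y)) → Γ(B.spec, B.π ⁻¹ᵁ U) := fun a =>
    ((inv B.gammaMap).app (op U)).hom (⟨sec y a, hmem' a⟩ : loc j U)
  let u : ((B.π ⁻¹ᵁ U : B.spec.Opens) : Scheme.{u}) ⟶ 𝔸(ULift.{u} (Fin (n y)); (U : Scheme.{u})) :=
    AffineSpace.homOfVector (B.π ∣_ U) (fun a => (B.π ⁻¹ᵁ U).topIso.inv (σ a))
  have hpre : h ⁻¹ᵁ (B.π ⁻¹ᵁ U) = f ⁻¹ᵁ U := by rw [← Scheme.Hom.comp_preimage, hh]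
  let e := X.isoOfEq hpre
  suffices hkey : (h ∣_ (B.π ⁻¹ᵁ U)) ≫ u = e.hom ≫ i y by
    have := hi y
    have h1 : IsImmersion ((h ∣_ (B.π ⁻¹ᵁ U)) ≫ u) := by rw [hkey]; infer_instance
    exact IsImmersion.of_comp (h ∣_ (B.π ⁻¹ᵁ U)) u
  apply AffineSpace.hom_ext
  · simp only [u, Category.assoc, AffineSpace.homOfVector_over, hif]
    rw [← cancel_mono U.ι]
    simp only [Category.assoc, morphismRestrict_ι, morphismRestrict_ι_assoc, hh]
    rw [reassoc_of% (hif y), morphismRestrict_ι]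
    exact (Scheme.isoOfEq_hom_ι_assoc X hpre f).symm
  · intro a
    simp only [u, Scheme.Hom.comp_appTop, CommRingCat.comp_apply,
      AffineSpace.homOfVector_appTop_coord]
    have h1 : h.appLE (B.π ⁻¹ᵁ U) (f ⁻¹ᵁ U) hpre.ge (σ a) = sec y a := by
      have := congrArg (fun w : B.presheaf ⟶ AffAlg.alg f => (w.app (op U)).hom
        (⟨sec y a, hmem' a⟩ : loc j U)) (congrArg Subtype.val hω)
      refine Eq.trans ?_ this
      exact (congr($(algHom_app B.π f h hh U) (σ a))).symm
    have h2 : (i y).appTop (AffineSpace.coord _ a) = (f ⁻¹ᵁ U).topIso.inv (sec y a) := by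
      simp only [sec, U, ← CommRingCat.comp_apply, Category.assoc, Iso.hom_inv_id, Category.comp_id]
    rw [h2, ← h1]
    simp only [← CommRingCat.comp_apply]
    congr 2
    simp [e, Scheme.Opens.topIso, Scheme.Hom.appLE, morphismRestrict_appTop,
      Scheme.isoOfEq_hom]
    rw [h.naturality_assoc]
    simp [← Functor.map_comp]
    congr 1

end Groth.Agent.RelSpecFT
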